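import Mathlib
import Cfsg.Agent.H613.KKL.Defs
import Cfsg.Agent.H613.RegGram

/-!
# S4546: 2-blocks with defect group `2^3` and inertial index divisible by three

* `Loc`: the local data at the involution `u` fixed by a 3-element of the inertial quotient.
-/

set_option autoImplicit false

open Cfsg

namespace Cfsg.Agent.H850.KKL

open Cfsg.Agent.H613.RegGram

/-- `f` is a block of `H = C_G(u)`, `u` an involution, `f` induces `B`, all heights in `f` are zero, the four characters `ψ i` of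
`f` are those with `u` in the kernel. -/
structure Loc {G : Type*} [Group G] [Finite G] (M : Ideal AlgInt) (B : Set (IrrCharacter G)) (u : G) (H : Subgroup G)
    (f : Set (IrrCharacter H)) (ψ : Fin 4 → IrrCharacter H) (ε : Fin 4 → ℤ) : Prop where
  inv : u * u = 1
  ne : u ≠ 1
  hH : H = Subgroup.centralizer ({u} : Set G)
  ind : IsInducedBlock M H f B
  defB : blockDefect 2 B = 3
  deff : blockDefect 2 f = 3
  height : ∀ θ ∈ f, blockHeight 2 f (θ : H → ℂ) = 0
  mem : ∀ i, ψ i ∈ f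
  sign : ∀ i, ε i = 1 ∨ ε i = -1
  rel : ∀ s : H, ¬ 2 ∣ orderOf s → ∑ i, (ε i : ℂ) * (ψ i : H → ℂ) s = 0
  gram : ∀ (_ : Fintype H) (i j : Fin 4), 8 * rg 2 (ψ i : H → ℂ) (ψ j : H → ℂ) =
    ((4 * (if i = j then 1 else 0) - ε i * ε j : ℤ) : ℂ)
  span : ∀ θ ∈ f, ∃ m : Fin 4 → ℤ, ∀ s : H, ¬ 2 ∣ orderOf s →
    (θ : H → ℂ) s = ∑ i, (m i : ℂ) * (ψ i : H → ℂ) s

end Cfsg.Agent.H850.KKL
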