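import Cfsg.Agent.H850.KKL.Main
import Cfsg.Agent.H611.KKL.Loc

/-!
# S4546: 2-blocks with defect group `2^3` and inertial index divisible by three have heights zero
-/

set_option autoImplicit false

open Cfsg Cfsg.Agent.H613.KKL

namespace Cfsg.Agent.H850.KKL

universe u

/-- **Defect group `2^3`, inertial index 3 or 21: all heights are zero.** -/
theorem three {G : Type u} [Group G] [Finite G] {M : Ideal AlgInt} (hM : IsPModular 2 M) {B : Set (IrrCharacter G)}
    (hB : IsPBlock M B) {D : Subgroup G} (hD : IsDefectGroup 2 M B D) (h8 : E8 D)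
    (c : Set (IrrCharacter ↥(Subgroup.centralizer (D : Set G))))
    (hc : IsInducedBlock M (Subgroup.centralizer (D : Set G)) c B) (T : Subgroup G)
    (hT : ∀ g : G, g ∈ T ↔ (g ∈ Subgroup.normalizer (D : Set G) ∧
      StabilizesBlock (Subgroup.centralizer (D : Set G)) c g))
    (h3 : 3 ∣ (Subgroup.centralizer (D : Set G)).relIndex T) : ∀ χ ∈ B, blockHeight 2 B (χ : G → ℂ) = 0 := by
  obtain ⟨u, H, f, ψ, ε, L⟩ := Cfsg.Agent.H611.KKL.exists_loc hM hB hD h8 c hc T hT h3
  exact core hM L

theorem twentyone {G : Type u} [Group G] [Finite G] {M : Ideal AlgInt} (hM : IsPModular 2 M) {B : Set (IrrCharacter G)}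
    (hB : IsPBlock M B) {D : Subgroup G} (hD : IsDefectGroup 2 M B D) (h8 : E8 D)
    (c : Set (IrrCharacter ↥(Subgroup.centralizer (D : Set G))))
    (hc : IsInducedBlock M (Subgroup.centralizer (D : Set G)) c B) (T : Subgroup G)
    (hT : ∀ g : G, g ∈ T ↔ (g ∈ Subgroup.normalizer (D : Set G) ∧
      StabilizesBlock (Subgroup.centralizer (D : Set G)) c g))
    (h21 : 21 ∣ (Subgroup.centralizer (D : Set G)).relIndex T) : ∀ χ ∈ B, blockHeight 2 B (χ : G → ℂ) = 0 :=
  three hM hB hD h8 c hc T hT (dvd_trans (by norm_num) h21)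

end Cfsg.Agent.H850.KKL
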