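import Mathlib

/-!
# S4546, inertial index divisible by three: the combinatorics of the rows
-/

set_option autoImplicit false

namespace Cfsg.Agent.H850.KKL

/-- exact power of two -/
def V2 (h : ℕ) (s : ℤ) : Prop := (2 : ℤ) ^ h ∣ s ∧ ¬ (2 : ℤ) ^ (h + 1) ∣ s

theorem V2.ne_zero {h : ℕ} {s : ℤ} (hs : V2 h s) : s ≠ 0 := by
  rintro rfl
  exact hs.2 (dvd_zero _)

theorem V2.eq_zero_of_odd {h : ℕ} {s : ℤ} (hs : V2 h s) (ho : ¬ (2 : ℤ) ∣ s) : h = 0 := by
  by_contra hne
  exact ho ((dvd_pow_self _ hne).trans hs.1)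

theorem V2.eq_one_of_two {h : ℕ} {s : ℤ} (hs : V2 h s) (ho : (2 : ℤ) ∣ s) (h4 : ¬ (4 : ℤ) ∣ s) : h = 1 := by
  rcases Nat.lt_trichotomy h 1 with h1 | h1 | h1
  · have h0 : h = 0 := by omega
    subst h0
    exact absurd (by simpa using ho) hs.2
  · exact h1
  · exfalso
    apply h4
    have h2 : (2 : ℤ) ^ 2 ∣ 2 ^ h := pow_dvd_pow 2 h1
    have h3 := h2.trans hs.1
    norm_num at h3
    exact h3

section

variable {ι : Type*} [Fintype ι]

theorem two_row {a b c : ι → ℤ} (haa : ∑ x, a x * a x = 4) (hab : ∑ x, a x * b x = 2) (hac : ∑ x, a x * c x = 2)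
    {h : ι → ℕ} (hb : ∀ x, V2 (h x) (4 * b x - (a x + b x + c x))) (x : ι) : a x = -1 ∨ a x = 0 ∨ a x = 1 := by
  classical
  have hle : a x * a x ≤ 4 := by
    rw [← haa]
    exact Finset.single_le_sum (f := fun x => a x * a x) (fun y _ => mul_self_nonneg _) (Finset.mem_univ x)
  have h1 : a x ≤ 2 := by nlinarith
  have h2 : -2 ≤ a x := by nlinarith
  have key : a x * a x = 4 → False := by
    intro h4
    have hz : ∀ y, y ≠ x → a y = 0 := by
      intro y hy
      rw [← Finset.add_sum_erase Finset.univ _ (Finset.mem_univ x), h4] at haa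
      have h5 : ∑ y ∈ Finset.univ.erase x, a y * a y = 0 := by linarith
      have h6 := (Finset.sum_eq_zero_iff_of_nonneg (fun y _ => mul_self_nonneg (a y))).1 h5 y
        (Finset.mem_erase.2 ⟨hy, Finset.mem_univ y⟩)
      exact mul_self_eq_zero.1 h6
    have e1 : a x * b x = 2 := by
      rw [← hab]
      exact (Finset.sum_eq_single (f := fun y => a y * b y) x (fun y _ hy => by
        show a y * b y = 0
        rw [hz y hy, zero_mul]) (fun h => absurd (Finset.mem_univ x) h)).symm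
    have e2 : a x * c x = 2 := by
      rw [← hac]
      exact (Finset.sum_eq_single (f := fun y => a y * c y) x (fun y _ hy => by
        show a y * c y = 0
        rw [hz y hy, zero_mul]) (fun h => absurd (Finset.mem_univ x) h)).symm
    have e3 : a x = 2 ∨ a x = -2 := by
      have : (a x - 2) * (a x + 2) = 0 := by linarith
      rcases mul_eq_zero.1 this with h | h
      · left; linarith
      · right; linarith
    refine (hb x).ne_zero ?_
    rcases e3 with e3 | e3 <;> rw [e3] at e1 e2 ⊢ <;> linarith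
  have h3 : a x = -2 ∨ a x = -1 ∨ a x = 0 ∨ a x = 1 ∨ a x = 2 := by omega
  rcases h3 with h3 | h3 | h3 | h3 | h3
  · exact (key (by rw [h3]; norm_num)).elim
  · exact Or.inl h3
  · exact Or.inr (Or.inl h3)
  · exact Or.inr (Or.inr h3)
  · exact (key (by rw [h3]; norm_num)).elim

/-- The rows. -/
structure Rows (a b c : ι → ℤ) (h : ι → ℕ) : Prop where
  aa : ∑ x, a x * a x = 4
  bb : ∑ x, b x * b x = 4
  cc : ∑ x, c x * c x = 4
  ab : ∑ x, a x * b x = 2
  ac : ∑ x, a x * c x = 2
  bc : ∑ x, b x * c x = 2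
  s : ∀ x, V2 (h x) (a x + b x + c x)
  va : ∀ x, V2 (h x) (4 * a x - (a x + b x + c x))
  vb : ∀ x, V2 (h x) (4 * b x - (a x + b x + c x))
  vc : ∀ x, V2 (h x) (4 * c x - (a x + b x + c x))

variable {a b c : ι → ℤ} {h : ι → ℕ}

theorem Rows.swap (H : Rows a b c h) : Rows a c b h where
  aa := H.aa
  bb := H.cc
  cc := H.bb
  ab := H.ac
  ac := H.ab
  bc := by rw [← H.bc]; exact Finset.sum_congr rfl fun x _ => mul_comm _ _
  s x := by have := H.s x; rwa [show a x + c x + b x = a x + b x + c x by ring]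
  va x := by have := H.va x; rwa [show a x + c x + b x = a x + b x + c x by ring]
  vb x := by have := H.vc x; rwa [show a x + c x + b x = a x + b x + c x by ring]
  vc x := by have := H.vb x; rwa [show a x + c x + b x = a x + b x + c x by ring]

theorem Rows.rot (H : Rows a b c h) : Rows b c a h where
  aa := H.bb
  bb := H.cc
  cc := H.aa
  ab := H.bc
  ac := by rw [← H.ab]; exact Finset.sum_congr rfl fun x _ => mul_comm _ _
  bc := by rw [← H.ac]; exact Finset.sum_congr rfl fun x _ => mul_comm _ _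
  s x := by have := H.s x; rwa [show b x + c x + a x = a x + b x + c x by ring]
  va x := by have := H.vb x; rwa [show b x + c x + a x = a x + b x + c x by ring]
  vb x := by have := H.vc x; rwa [show b x + c x + a x = a x + b x + c x by ring]
  vc x := by have := H.va x; rwa [show b x + c x + a x = a x + b x + c x by ring]

theorem Rows.ea (H : Rows a b c h) (x : ι) : a x = -1 ∨ a x = 0 ∨ a x = 1 :=
  two_row H.aa H.ab H.ac H.vb x

theorem Rows.eb (H : Rows a b c h) (x : ι) : b x = -1 ∨ b x = 0 ∨ b x = 1 := H.rot.ea x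

theorem Rows.ec (H : Rows a b c h) (x : ι) : c x = -1 ∨ c x = 0 ∨ c x = 1 := H.rot.rot.ea x

/-- height at most one -/
theorem Rows.le_one (H : Rows a b c h) (x : ι) : h x = 0 ∨ h x = 1 := by
  have h1 := H.ea x
  have h2 := H.eb x
  have h3 := H.ec x
  have h4 := (H.s x).ne_zero
  by_cases ho : (2 : ℤ) ∣ a x + b x + c x
  · right
    refine (H.s x).eq_one_of_two ho ?_
    intro h5
    rcases h1 with h1 | h1 | h1 <;> rcases h2 with h2 | h2 | h2 <;> rcases h3 with h3 | h3 | h3 <;>
      rw [h1, h2, h3] at h4 ho h5 <;> revert h4 ho h5 <;> decide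
  · left
    exact (H.s x).eq_zero_of_odd ho

/-- The pointwise inequality. -/
theorem Rows.ineq (H : Rows a b c h) (x : ι) :
    (if h x = 0 then (1 : ℤ) else 0) ≤ (a x * a x + b x * b x + c x * c x) - 2 * (a x * b x + a x * c x + b x * c x) +
      4 * (a x * b x - (if h x = 1 ∧ a x ≠ 0 ∧ b x ≠ 0 then 1 else 0)) := by
  have h1 := H.ea x
  have h2 := H.eb x
  have h3 := H.ec x
  have h4 := (H.s x).ne_zero
  have h5 : (h x = 1) → (2 : ℤ) ∣ a x + b x + c x := by
    intro h5
    have := (H.s x).1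
    rw [h5, pow_one] at this
    exact this
  rcases H.le_one x with h6 | h6
  · rw [if_pos h6, if_neg (by rw [h6]; simp)]
    have h7 : ¬ (2 : ℤ) ∣ a x + b x + c x := by
      have := (H.s x).2
      rw [h6, zero_add, pow_one] at this
      exact this
    rcases h1 with h1 | h1 | h1 <;> rcases h2 with h2 | h2 | h2 <;> rcases h3 with h3 | h3 | h3 <;>
      rw [h1, h2, h3] at h4 h7 ⊢ <;> revert h4 h7 <;> decide
  · have h7 := h5 h6
    rw [if_neg (by rw [h6]; simp)]
    rcases h1 with h1 | h1 | h1 <;> rcases h2 with h2 | h2 | h2 <;> rcases h3 with h3 | h3 | h3 <;>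
      rw [h1, h2, h3] at h4 h7 ⊢ <;> simp only [h6] <;> revert h4 h7 <;> decide

/-- If two even rows of the first type exist then there is no odd row. -/
theorem Rows.none (H : Rows a b c h) (h2 : 2 ≤ (Finset.univ.filter fun x => h x = 1 ∧ a x ≠ 0 ∧ b x ≠ 0).card) (x : ι) :
    h x ≠ 0 := by
  classical
  intro hx
  have h3 := Finset.sum_le_sum fun x (_ : x ∈ Finset.univ) => H.ineq x
  simp only [Finset.sum_add_distrib, Finset.sum_sub_distrib, ← Finset.mul_sum, H.aa, H.bb, H.cc, H.ab, H.ac, H.bc,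
    Finset.sum_boole] at h3
  have h4 : 1 ≤ (Finset.univ.filter fun x => h x = 0).card :=
    Finset.card_pos.2 ⟨x, Finset.mem_filter.2 ⟨Finset.mem_univ x, hx⟩⟩
  have h5 : (1 : ℤ) ≤ ((Finset.univ.filter fun x => h x = 0).card : ℤ) := by exact_mod_cast h4
  have h6 : (2 : ℤ) ≤ ((Finset.univ.filter fun x => h x = 1 ∧ a x ≠ 0 ∧ b x ≠ 0).card : ℤ) := by exact_mod_cast h2
  linarith

theorem Rows.not_ab (H : Rows a b c h) (he : 2 ∣ (Finset.univ.filter fun x => h x = 1 ∧ a x ≠ 0 ∧ b x ≠ 0).card)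
    {x₀ : ι} (h0 : h x₀ = 0) (x : ι) : ¬ (h x = 1 ∧ a x ≠ 0 ∧ b x ≠ 0) := by
  intro hx
  have h4 : 1 ≤ (Finset.univ.filter fun x => h x = 1 ∧ a x ≠ 0 ∧ b x ≠ 0).card :=
    Finset.card_pos.2 ⟨x, Finset.mem_filter.2 ⟨Finset.mem_univ x, hx⟩⟩
  exact H.none (by omega) x₀ h0

/-- **The combinatorics**: all heights are zero. -/
theorem Rows.main (H : Rows a b c h) {x₀ : ι} (h0 : h x₀ = 0)
    (he1 : 2 ∣ (Finset.univ.filter fun x => h x = 1 ∧ a x ≠ 0 ∧ b x ≠ 0).card)
    (he2 : 2 ∣ (Finset.univ.filter fun x => h x = 1 ∧ b x ≠ 0 ∧ c x ≠ 0).card)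
    (he3 : 2 ∣ (Finset.univ.filter fun x => h x = 1 ∧ c x ≠ 0 ∧ a x ≠ 0).card) (x : ι) : h x = 0 := by
  rcases H.le_one x with h6 | h6
  · exact h6
  · exfalso
    have e1 := H.not_ab he1 h0 x
    have e2 := H.rot.not_ab he2 h0 x
    have e3 := H.rot.rot.not_ab he3 h0 x
    have h7 : (2 : ℤ) ∣ a x + b x + c x := by
      have := (H.s x).1
      rw [h6, pow_one] at this
      exact this
    have h4 := (H.s x).ne_zero
    have h1 := H.ea x
    have h2 := H.eb x
    have h3 := H.ec x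
    simp only [h6, true_and, ne_eq, not_and, not_not] at e1 e2 e3
    omega

end

end Cfsg.Agent.H850.KKL
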