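import Cfsg.Agent.H624.MajVal
import Cfsg.Agent.Blocks.Over

/-!
# S4546: convolution of class functions, central characters and a congruence

* `triple`: `∑ a x b y conj (c (x y)) = |G|² ∑ ⟨a, χ⟩ ⟨b, χ⟩ conj ⟨c, χ⟩ / χ 1`;
* `cnv`: the convolution; `cnv_sub`: `cnv a a z ≡ ∑_{x ∈ C(u)} a x a (x⁻¹ z)` modulo 2, `z ∈ C(u)`, `u` an involution;
* `ind_apply`: the values of an induced function supported on a section.
-/

set_option autoImplicit false

open Cfsg
open scoped ComplexConjugate

namespace Cfsg.Agent.H850.KKL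

open Cfsg.Agent.Characters

section triple

variable {G : Type*} [Group G] [Fintype G]

theorem sum_mul_conj_eq (a χ : G → ℂ) :
    ∑ x, a x * conj (χ x) = (Nat.card G : ℂ) * classInner a χ := by
  rw [Core.classInner_def, mul_inv_cancel_left₀ Core.card_ne_zero_complex]

theorem shift_conj {a : G → ℂ} (ha : IsClassFunction G a) (χ : IrrCharacter G) (y : G) :
    ∑ x, a x * conj ((χ : G → ℂ) (x * y)) =
      (Nat.card G : ℂ) * classInner a (χ : G → ℂ) / (χ : G → ℂ) 1 * conj ((χ : G → ℂ) y) := by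
  have h := Cfsg.Agent.Blocks.Over.sum_mul_shift (Core.isIrr_conj χ.2) ha y
  have h1 : conj ((χ : G → ℂ) 1) = (χ : G → ℂ) 1 := by
    obtain ⟨n, -, h⟩ := Core.isIrr_apply_one χ.2
    rw [h, Complex.conj_natCast]
  rw [h1, sum_mul_conj_eq a (χ : G → ℂ)] at h
  exact h

/-- The trilinear form in terms of the characters. -/
theorem triple [Fintype (IrrCharacter G)] {a b c : G → ℂ} (ha : IsClassFunction G a) (hc : IsClassFunction G c) :
    ∑ x, ∑ y, a x * b y * conj (c (x * y)) =
      (Nat.card G : ℂ) ^ 2 * ∑ χ : IrrCharacter G, classInner a (χ : G → ℂ) * classInner b (χ : G → ℂ) *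
        conj (classInner c (χ : G → ℂ)) / (χ : G → ℂ) 1 := by
  have h1 : ∀ z, conj (c z) = ∑ χ : IrrCharacter G, conj (classInner c (χ : G → ℂ)) * conj ((χ : G → ℂ) z) := by
    intro z
    conv_lhs => rw [Core.classFunction_eq_sum hc]
    rw [Finset.sum_apply, map_sum]
    exact Finset.sum_congr rfl fun χ _ => by rw [Pi.smul_apply, smul_eq_mul, map_mul]
  calc ∑ x, ∑ y, a x * b y * conj (c (x * y))
      = ∑ χ : IrrCharacter G, conj (classInner c (χ : G → ℂ)) *
          ∑ y, b y * ∑ x, a x * conj ((χ : G → ℂ) (x * y)) := by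
        simp only [h1, Finset.mul_sum]
        rw [Finset.sum_comm, Finset.sum_congr rfl fun y _ => Finset.sum_comm, Finset.sum_comm]
        refine Finset.sum_congr rfl fun χ _ => Finset.sum_congr rfl fun y _ => Finset.sum_congr rfl fun x _ => ?_
        ring
    _ = _ := by
        rw [Finset.mul_sum]
        refine Finset.sum_congr rfl fun χ _ => ?_
        simp only [shift_conj ha]
        have h2 : ∑ y, b y * ((Nat.card G : ℂ) * classInner a (χ : G → ℂ) / (χ : G → ℂ) 1 *
            conj ((χ : G → ℂ) y)) = (Nat.card G : ℂ) * classInner a (χ : G → ℂ) / (χ : G → ℂ) 1 *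
            ((Nat.card G : ℂ) * classInner b (χ : G → ℂ)) := by
          rw [← sum_mul_conj_eq b, Finset.mul_sum]
          exact Finset.sum_congr rfl fun y _ => by ring
        rw [h2]
        ring

/-- The convolution. -/
noncomputable def cnv (a b : G → ℂ) (z : G) : ℂ := ∑ x, a x * b (x⁻¹ * z)

theorem cnv_def (a b : G → ℂ) (z : G) : cnv a b z = ∑ x, a x * b (x⁻¹ * z) := rfl

theorem isClassFunction_cnv {a b : G → ℂ} (ha : IsClassFunction G a) (hb : IsClassFunction G b) :
    IsClassFunction G (cnv a b) := by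
  intro g h
  rw [cnv_def, cnv_def, ← Equiv.sum_comp (MulAut.conj h).toEquiv]
  refine Finset.sum_congr rfl fun x _ => ?_
  show a (h * x * h⁻¹) * b ((h * x * h⁻¹)⁻¹ * (h * g * h⁻¹)) = _
  rw [ha x h, show (h * x * h⁻¹)⁻¹ * (h * g * h⁻¹) = h * (x⁻¹ * g) * h⁻¹ by group, hb]

theorem sum_cnv (a b c : G → ℂ) :
    ∑ z, cnv a b z * conj (c z) = ∑ x, ∑ y, a x * b y * conj (c (x * y)) := by
  simp only [cnv_def, Finset.sum_mul]
  rw [Finset.sum_comm]
  refine Finset.sum_congr rfl fun x _ => ?_
  rw [← Equiv.sum_comp (Equiv.mulLeft x)]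
  refine Finset.sum_congr rfl fun y _ => ?_
  show a x * b (x⁻¹ * (x * y)) * conj (c (x * y)) = _
  rw [inv_mul_cancel_left]

end triple

section half

/-- A sum over a set with a fixed-point-free involution. -/
theorem exists_half {X : Type*} [DecidableEq X] (σ : X → X) (F : X → ℂ) (hF : ∀ x, F (σ x) = F x)
    (h2 : ∀ x, σ (σ x) = x) : ∀ (n : ℕ) (S : Finset X), S.card = n → (∀ x ∈ S, σ x ∈ S) → (∀ x ∈ S, σ x ≠ x) →
    (∀ x ∈ S, IsIntegral ℤ (F x)) → ∃ E : ℂ, IsIntegral ℤ E ∧ ∑ x ∈ S, F x = 2 * E := by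
  intro n
  induction n using Nat.strong_induction_on with
  | _ n ih =>
    intro S hn hS hne hint
    rcases S.eq_empty_or_nonempty with rfl | ⟨x, hx⟩
    · exact ⟨0, isIntegral_zero, by simp⟩
    · have h3 : σ x ∈ S.erase x := Finset.mem_erase.2 ⟨hne x hx, hS x hx⟩
      set S' := (S.erase x).erase (σ x) with hS'
      have hlt : S'.card < n := by
        rw [← hn]
        refine Finset.card_lt_card ?_
        refine ⟨fun y hy => Finset.mem_of_mem_erase (Finset.mem_of_mem_erase hy), fun h => ?_⟩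
        have := h hx
        rw [hS', Finset.mem_erase, Finset.mem_erase] at this
        exact this.2.1 rfl
      obtain ⟨E, hE, hsum⟩ := ih _ hlt S' rfl (fun y hy => by
        rw [hS', Finset.mem_erase, Finset.mem_erase] at hy ⊢
        refine ⟨fun h => hy.2.1 ?_, fun h => hy.1 ?_, hS y hy.2.2⟩
        · rw [← h2 y, h, h2]
        · rw [← h, h2]) (fun y hy => hne y (Finset.mem_of_mem_erase (Finset.mem_of_mem_erase hy)))
        (fun y hy => hint y (Finset.mem_of_mem_erase (Finset.mem_of_mem_erase hy)))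
      refine ⟨F x + E, (hint x hx).add hE, ?_⟩
      rw [← Finset.add_sum_erase S _ hx, ← Finset.add_sum_erase _ _ h3, ← hS', hsum, hF]
      ring

variable {G : Type*} [Group G] [Fintype G]

/-- **The congruence.** -/
theorem cnv_sub {u : G} (huu : u * u = 1) {H : Subgroup G} [Fintype H] (hH : H = Subgroup.centralizer ({u} : Set G))
    {a : G → ℂ} (ha : IsClassFunction G a) (hint : ∀ g, IsIntegral ℤ (a g)) (z : H) :
    ∃ E : ℂ, IsIntegral ℤ E ∧ cnv a a (z : G) = cnv (fun x : H => a x) (fun x : H => a x) z + 2 * E := by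
  classical
  have hz : u * (z : G) * u⁻¹ = z := by
    have h1 : (z : G) * u = u * z := Subgroup.mem_centralizer_singleton_iff.1 (hH ▸ z.2)
    rw [← h1, mul_inv_cancel_right]
  have huinv : u⁻¹ = u := inv_eq_of_mul_eq_one_left huu
  obtain ⟨E, hE, hsum⟩ := exists_half (fun x : G => u * x * u⁻¹) (fun x => a x * a (x⁻¹ * z)) (fun x => by
    show a (u * x * u⁻¹) * a ((u * x * u⁻¹)⁻¹ * z) = _
    have h1 : (u * x * u⁻¹)⁻¹ * (z : G) = u * (x⁻¹ * z) * u⁻¹ := by
      conv_lhs => rw [← hz]
      group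
    rw [h1, ha, ha]) (fun x => by
      show u * (u * x * u⁻¹) * u⁻¹ = x
      rw [huinv]
      calc u * (u * x * u) * u = (u * u) * x * (u * u) := by group
        _ = x := by rw [huu, one_mul, mul_one]) _
    (Finset.univ.filter fun x : G => x ∉ H) rfl (fun x hx => by
      rw [Finset.mem_filter] at hx ⊢
      refine ⟨Finset.mem_univ _, fun h => hx.2 ?_⟩
      have huH : u ∈ H := by
        rw [hH, Subgroup.mem_centralizer_singleton_iff]
      have h1 := H.mul_mem (H.mul_mem (H.inv_mem huH) h) huH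
      have h2 : u⁻¹ * (u * x * u⁻¹) * u = x := by group
      rwa [h2] at h1) (fun x hx h => by
      rw [Finset.mem_filter] at hx
      apply hx.2
      rw [hH, Subgroup.mem_centralizer_singleton_iff]
      exact (mul_inv_eq_iff_eq_mul.1 h).symm) (fun x _ => (hint x).mul (hint _))
  refine ⟨E, hE, ?_⟩
  rw [cnv_def, ← Finset.sum_filter_add_sum_filter_not Finset.univ (fun x : G => x ∈ H), hsum]
  congr 1
  rw [Finset.sum_subtype (p := fun x : G => x ∈ H) _ (by simp), cnv_def]
  rfl

end half

section ind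

variable {G : Type*} [Group G] [Fintype G] {p : ℕ} [Fact p.Prime]

/-- The values of the induced function on the section of `v`. -/
theorem ind_apply {H : Subgroup G} {v : G} (hH : H = Subgroup.centralizer ({v} : Set G))
    {θ : H → ℂ} (hθ : IsClassFunction H θ) (hsupp : ∀ c : H, θ c ≠ 0 → IsPPart p (c : G) v) {c : H}
    (hpc : IsPPart p (c : G) v) : indFun H θ (c : G) = θ c := by
  classical
  have hfin : Fintype H := Fintype.ofFinite _
  rw [Core.indFun_apply]
  have h2 : ∀ x : G, extendByZero H θ (x⁻¹ * (c : G) * x) = if x ∈ H then θ c else 0 := by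
    intro x
    by_cases hx : x ∈ H
    · rw [if_pos hx]
      have hm : x⁻¹ * (c : G) * x ∈ H := H.mul_mem (H.mul_mem (H.inv_mem hx) c.2) hx
      rw [Core.extendByZero_of_mem _ _ hm]
      have := hθ c ⟨x⁻¹, H.inv_mem hx⟩
      rw [← this]
      congr 1
      apply Subtype.ext
      show x⁻¹ * (c : G) * x = x⁻¹ * (c : G) * (x⁻¹)⁻¹
      rw [inv_inv]
    · rw [if_neg hx]
      by_contra hne
      have hm : x⁻¹ * (c : G) * x ∈ H := by
        by_contra h
        exact hne (Core.extendByZero_of_notMem _ _ h)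
      rw [Core.extendByZero_of_mem _ _ hm] at hne
      have h3 := hsupp _ hne
      have h4 : x⁻¹ ∈ Subgroup.centralizer ({v} : Set G) :=
        Cfsg.Agent.Blocks.PPart.mem_centralizer_of_conj hpc h3 (by rw [inv_inv])
      rw [← hH] at h4
      exact hx (by simpa using H.inv_mem h4)
  rw [Finset.sum_congr rfl (fun x _ => h2 x), Finset.sum_ite, Finset.sum_const_zero, add_zero,
    Finset.sum_const, nsmul_eq_mul, ← mul_assoc]
  have h5 : (Finset.univ.filter (fun x : G => x ∈ H)).card = Nat.card H := by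
    rw [Nat.card_eq_fintype_card, Fintype.card_subtype]
  rw [h5, inv_mul_cancel₀, one_mul]
  exact_mod_cast Nat.card_pos.ne'

end ind

end Cfsg.Agent.H850.KKL
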