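import Cfsg.Agent.H850.KKL.Key
import Cfsg.Agent.H850.KKL.Comb

/-!
# S4546: from the local data to heights zero
-/

set_option autoImplicit false
set_option linter.unusedSectionVars false

open Cfsg
open scoped ComplexConjugate

namespace Cfsg.Agent.H850.KKL

open Cfsg.Agent.Characters Cfsg.Agent.Blocks.Local Cfsg.Agent.Blocks.Blau
open Cfsg.Agent.H613.RegGram Cfsg.Agent.H613.Contrib

variable {M : Ideal AlgInt}

/-- A quotient of two natural numbers with the same power of two is `1` modulo `M`. -/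
theorem ratio_sub_one (hM : IsPModular 2 M) {n d : ℕ} (hn : n ≠ 0) (hd : d ≠ 0)
    (h : n.factorization 2 = d.factorization 2) : MemLocalIdeal M ((n : ℂ) / (d : ℂ) - 1) := by
  have hp2 : Fact (Nat.Prime 2) := ⟨Nat.prime_two⟩
  have hMp := isPrime_of_isPModular hM
  have h1 := Nat.ordProj_mul_ordCompl_eq_self n 2
  have h2 := Nat.ordProj_mul_ordCompl_eq_self d 2
  have h3 := Nat.not_dvd_ordCompl Nat.prime_two hn
  have h4 := Nat.not_dvd_ordCompl Nat.prime_two hd
  rw [h] at h1 h3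
  set v := d.factorization 2 with hv
  set n' := n / 2 ^ v with hn'
  set d' := d / 2 ^ v with hd'
  have hd0 : d' ≠ 0 := by
    intro h5
    rw [h5] at h4
    exact h4 (dvd_zero _)
  have e0 : (d' : ℂ) ≠ 0 := by exact_mod_cast hd0
  have e1 : ((2 : ℂ) ^ v) ≠ 0 := pow_ne_zero _ two_ne_zero
  have h5 : (n : ℂ) / (d : ℂ) - 1 = (((n' : ℤ) - d' : ℤ) : ℂ) * (((1 : ℕ) : ℂ) / (d' : ℂ)) := by
    rw [← h1, ← h2]
    push_cast
    field_simp
  rw [h5]
  refine memLocalIdeal_mul_right ?_ (memLocalRing_natCast_div hM hd0 ?_)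
  · rw [memLocalIdeal_intCast_iff hM]
    push_cast
    omega
  · rw [Nat.factorization_eq_zero_of_not_dvd h4]
    exact Nat.zero_le _

/-- **The parity.** -/
theorem parity (hM : IsPModular 2 M) {ι : Type*} [Fintype ι] {a b c : ι → ℤ} {h : ι → ℕ} (R : Rows a b c h)
    {n d : ι → ℕ} (hn : ∀ x, n x ≠ 0) (hd : ∀ x, d x ≠ 0)
    (hv : ∀ x, (n x).factorization 2 + h x = (d x).factorization 2)
    (hsum : MemLocalRing M (∑ x, ((a x ^ 2 * b x : ℤ) : ℂ) * ((n x : ℂ) / (d x : ℂ)))) :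
    2 ∣ (Finset.univ.filter fun x => h x = 1 ∧ a x ≠ 0 ∧ b x ≠ 0).card := by
  classical
  have hp2 : Fact (Nat.Prime 2) := ⟨Nat.prime_two⟩
  have hMp := isPrime_of_isPModular hM
  have h2 : MemLocalIdeal M (2 : ℂ) := by
    have := memLocalIdeal_p hM
    exact_mod_cast this
  have hterm : ∀ x, MemLocalIdeal M (2 * (((a x ^ 2 * b x : ℤ) : ℂ) * ((n x : ℂ) / (d x : ℂ))) -
      (if h x = 1 ∧ a x ≠ 0 ∧ b x ≠ 0 then 1 else 0)) := by
    intro x
    rcases R.le_one x with h0 | h1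
    · have h3 := hv x
      rw [h0, add_zero] at h3
      rw [if_neg (by rw [h0]; simp), sub_zero]
      exact memLocalIdeal_mul_right h2 (memLocalRing_mul (memLocalRing_intCast _)
        (memLocalRing_natCast_div hM (hd x) h3.ge))
    · have h3 : (2 * n x).factorization 2 = (d x).factorization 2 := by
        rw [Nat.factorization_mul two_ne_zero (hn x), ← hv x, h1]
        simp [Nat.prime_two.factorization_self, add_comm]
      have h4 := ratio_sub_one hM (mul_ne_zero two_ne_zero (hn x)) (hd x) h3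
      have h5 := memLocalIdeal_mul_left (memLocalRing_intCast (M := M) (a x ^ 2 * b x)) h4
      have h6 : MemLocalIdeal M (((a x ^ 2 * b x : ℤ) : ℂ) - (if h x = 1 ∧ a x ≠ 0 ∧ b x ≠ 0 then 1 else 0)) := by
        have h7 : (((a x ^ 2 * b x : ℤ) : ℂ) - (if h x = 1 ∧ a x ≠ 0 ∧ b x ≠ 0 then 1 else 0)) =
            ((a x ^ 2 * b x - (if h x = 1 ∧ a x ≠ 0 ∧ b x ≠ 0 then 1 else 0) : ℤ) : ℂ) := by
          split_ifs <;> push_cast <;> ring
        rw [h7, memLocalIdeal_intCast_iff hM]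
        rcases R.ea x with e | e | e <;> rcases R.eb x with e' | e' | e' <;> rw [e, e'] <;> simp [h1]
      have h8 := memLocalIdeal_add h5 h6
      convert h8 using 1
      push_cast
      ring
  have htot := memLocalIdeal_sum (M := M) (s := Finset.univ) fun x (_ : x ∈ Finset.univ) => hterm x
  rw [Finset.sum_sub_distrib, ← Finset.mul_sum, Finset.sum_boole] at htot
  have h9 := memLocalIdeal_sub (memLocalIdeal_mul_right h2 hsum) htot
  rw [sub_sub_cancel] at h9
  have h10 := (memLocalIdeal_intCast_iff (p := 2) hM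
    ((Finset.univ.filter fun x => h x = 1 ∧ a x ≠ 0 ∧ b x ≠ 0).card : ℤ)).1 (by exact_mod_cast h9)
  exact_mod_cast h10

/-- **Heights zero from the local data**, given the rows and the divisibility lemma. -/
theorem core_of {G : Type*} [Group G] [Fintype G] {B : Set (IrrCharacter G)} {u : G} {H : Subgroup G}
    [Fintype H] {f : Set (IrrCharacter H)} {ψ : Fin 4 → IrrCharacter H} {ε : Fin 4 → ℤ} [Fintype B]
    (hM : IsPModular 2 M) (L : Loc M B u H f ψ ε) {μ : B → Fin 4 → ℤ}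
    (hμ : ∀ (χ : B) (i : Fin 4), 8 * (ε i : ℂ) * wt 2 u (χ : G → ℂ) (ψ i : H → ℂ) =
      ((4 * μ χ i - ∑ j, μ χ j : ℤ) : ℂ))
    (R : Rows (fun χ => μ χ 0 - μ χ 3) (fun χ => μ χ 1 - μ χ 3) (fun χ => μ χ 2 - μ χ 3)
      (fun χ : B => blockHeight 2 B (χ : G → ℂ)))
    (hP : ∀ u : H, u ∈ Subgroup.center H → (∃ k, orderOf u = 2 ^ k) →
      ∀ g : H → ℂ, IsGeneralizedCharacter H g → (∀ c : H, 2 ∣ orderOf (u⁻¹ * c) → g c = 0) → ∀ E : H → ℂ,
      IsClassFunction H E → (∀ c, MemLocalRing M (E c)) → MemLocalRing M ((Nat.card H : ℂ)⁻¹ * ∑ c, E c * g c)) :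
    ∀ χ ∈ B, blockHeight 2 B (χ : G → ℂ) = 0 := by
  have hp2 : Fact (Nat.Prime 2) := ⟨Nat.prime_two⟩
  have hMp := isPrime_of_isPModular hM
  obtain ⟨χ₀, hχ₀, h0⟩ := exists_blockHeight_eq_zero 2 (isPBlock_nonempty hM L.ind.2.1)
  have hpar : ∀ (i j : Fin 4) {a b c : B → ℤ}, (∀ χ, a χ = μ χ i - μ χ 3) → (∀ χ, b χ = μ χ j - μ χ 3) →
      Rows a b c (fun χ : B => blockHeight 2 B (χ : G → ℂ)) →
      2 ∣ (Finset.univ.filter fun χ : B => blockHeight 2 B (χ : G → ℂ) = 1 ∧ a χ ≠ 0 ∧ b χ ≠ 0).card := by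
    intro i j a b c ha hb R'
    refine parity hM R' (n := fun _ => Nat.card G) (d := fun χ => 8 * charDegree (χ : G → ℂ))
      (fun _ => Nat.card_pos.ne') (fun χ => mul_ne_zero (by norm_num) (charDegree_ne_zero _)) (fun χ => ?_) ?_
    · have h1 := defect_add_eq_add (p := 2) χ.2
      rw [L.defB] at h1
      have h2 : (8 * charDegree ((χ : IrrCharacter G) : G → ℂ)).factorization 2 =
          3 + (charDegree ((χ : IrrCharacter G) : G → ℂ)).factorization 2 := by
        rw [Nat.factorization_mul (by norm_num) (charDegree_ne_zero _), show (8 : ℕ) = 2 ^ 3 by norm_num,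
          Nat.factorization_pow]
        simp [Nat.prime_two.factorization_self]
      show (Nat.card G).factorization 2 + blockHeight 2 B ((χ : IrrCharacter G) : G → ℂ) =
        (8 * charDegree ((χ : IrrCharacter G) : G → ℂ)).factorization 2
      rw [h2, h1]
    · have h1 := key hM L hμ hP i j
      convert h1 using 1
      refine Finset.sum_congr rfl fun χ _ => ?_
      rw [ha, hb, apply_one_eq_charDegree]
      push_cast
      rfl
  intro χ hχ
  exact R.main (x₀ := ⟨χ₀, hχ₀⟩) h0 (hpar 0 1 (fun _ => rfl) (fun _ => rfl) R)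
    (hpar 1 2 (fun _ => rfl) (fun _ => rfl) R.rot) (hpar 2 0 (fun _ => rfl) (fun _ => rfl) R.rot.rot) ⟨χ, hχ⟩

end Cfsg.Agent.H850.KKL
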