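import Cfsg.Agent.H850.KKL.KeyAbs
import Cfsg.Agent.H850.KKL.Loc
import Cfsg.Agent.H639.Sec

/-!
# S4546: the cubic sum for the local data
-/

set_option autoImplicit false
set_option linter.unusedSectionVars false

open Cfsg
open scoped ComplexConjugate

namespace Cfsg.Agent.H850.KKL

open Cfsg.Agent.Characters Cfsg.Agent.Blocks.Local Cfsg.Agent.Blocks.Blau
open Cfsg.Agent.H613.RegGram Cfsg.Agent.H613.Contrib
open Cfsg.Agent.Blocks.Basic (isPBlock_blockOf mem_blockOf_self isPBlock_eq_blockOf)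

variable {G : Type*} [Group G] [Fintype G] {M : Ideal AlgInt} {B : Set (IrrCharacter G)} {u : G} {H : Subgroup G}
  [Fintype H] {f : Set (IrrCharacter H)} {ψ : Fin 4 → IrrCharacter H} {ε : Fin 4 → ℤ}

/-- the difference -/
noncomputable def dif (ψ : Fin 4 → IrrCharacter H) (ε : Fin 4 → ℤ) (i : Fin 4) : H → ℂ :=
  fun s => (ε i : ℂ) * (ψ i : H → ℂ) s - (ε 3 : ℂ) * (ψ 3 : H → ℂ) s

theorem dif_apply (i : Fin 4) (s : H) :
    dif ψ ε i s = (ε i : ℂ) * (ψ i : H → ℂ) s - (ε 3 : ℂ) * (ψ 3 : H → ℂ) s := rfl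

theorem isClassFunction_dif (i : Fin 4) : IsClassFunction H (dif ψ ε i) := by
  intro g h
  rw [dif_apply, dif_apply, Core.isIrr_isClassFunction (ψ i).2 g h, Core.isIrr_isClassFunction (ψ 3).2 g h]

theorem isIntegral_dif (i : Fin 4) (s : H) : IsIntegral ℤ (dif ψ ε i s) := by
  rw [dif_apply]
  have h1 : ∀ n : ℤ, IsIntegral ℤ (n : ℂ) := fun n => by
    have := isIntegral_algebraMap (R := ℤ) (A := ℂ) (x := n)
    simpa using this
  exact ((h1 _).mul (isIntegral_of_isCharacter (Core.isIrr_isCharacter (ψ i).2) s)).sub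
    ((h1 _).mul (isIntegral_of_isCharacter (Core.isIrr_isCharacter (ψ 3).2) s))

/-- `⟨θ, η⟩` of a shifted regular part. -/
theorem classInner_shf (u' : H) (φ θ : H → ℂ) :
    classInner (shf u' (regPart 2 φ)) θ = conj (rg 2 (fun c => θ (u' * c)) φ) := by
  rw [Core.classInner_def, rg_def, pair_def, map_mul, map_inv₀, Complex.conj_natCast, map_sum,
    ← Equiv.sum_comp (Equiv.mulLeft u')]
  congr 1
  refine Finset.sum_congr rfl fun s _ => ?_
  show regPart 2 φ (u'⁻¹ * (u' * s)) * conj (θ (u' * s)) = _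
  rw [inv_mul_cancel_left, map_mul]
  congr 1
  by_cases h : 2 ∣ orderOf s
  · rw [regPart_of_dvd h, regPart_of_dvd h, map_zero]
  · rw [regPart_of_not_dvd h, regPart_of_not_dvd h, Complex.conj_conj]

theorem classInner_ind (u' : H) (φ : H → ℂ) {χ : G → ℂ} (hχ : IsClassFunction G χ) :
    classInner (indFun H (shf u' (regPart 2 φ))) χ = conj (wt 2 (u' : G) χ φ) := by
  have h1 := Cfsg.Agent.OddOrderCharacters.InducedNormal.sum_indFun_mul H (shf u' (regPart 2 φ))
    (fun g => conj (χ g)) (fun g h => by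
      show conj _ = conj _
      rw [hχ g h])
  have h2 := classInner_shf u' φ (fun c : H => χ c)
  rw [Core.classInner_def] at h2 ⊢
  rw [h1, ← Nat.card_eq_fintype_card (α := G)]
  have hG0 : (Nat.card G : ℂ) ≠ 0 := Core.card_ne_zero_complex
  rw [mul_comm (Nat.card H : ℂ)⁻¹, mul_assoc, inv_mul_cancel_left₀ hG0, h2]
  rfl

theorem wt_dif (χ : G → ℂ) (i : Fin 4) :
    wt 2 u χ (dif ψ ε i) = (ε i : ℂ) * wt 2 u χ (ψ i : H → ℂ) - (ε 3 : ℂ) * wt 2 u χ (ψ 3 : H → ℂ) := by
  simp only [wt_def, rg_def, pair_eq_sum_filter, Finset.mul_sum]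
  rw [← Finset.sum_sub_distrib]
  refine Finset.sum_congr rfl fun s _ => ?_
  rw [dif_apply, map_sub, map_mul, map_mul, map_intCast, map_intCast]
  ring

theorem rg_dif (χ : H → ℂ) (i : Fin 4) :
    rg 2 χ (dif ψ ε i) = (ε i : ℂ) * rg 2 χ (ψ i : H → ℂ) - (ε 3 : ℂ) * rg 2 χ (ψ 3 : H → ℂ) := by
  simp only [rg_def, pair_eq_sum_filter, Finset.mul_sum]
  rw [← Finset.sum_sub_distrib]
  refine Finset.sum_congr rfl fun s _ => ?_
  rw [dif_apply, map_sub, map_mul, map_mul, map_intCast, map_intCast]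
  ring

/-- **The cubic sum for the local data.** -/
theorem key [Fintype B] (hM : IsPModular 2 M) (L : Loc M B u H f ψ ε) {μ : B → Fin 4 → ℤ}
    (hμ : ∀ (χ : B) (i : Fin 4), 8 * (ε i : ℂ) * wt 2 u (χ : G → ℂ) (ψ i : H → ℂ) = ((4 * μ χ i - ∑ j, μ χ j : ℤ) : ℂ))
    (hP : ∀ u : H, u ∈ Subgroup.center H → (∃ k, orderOf u = 2 ^ k) →
      ∀ g : H → ℂ, IsGeneralizedCharacter H g → (∀ c : H, 2 ∣ orderOf (u⁻¹ * c) → g c = 0) → ∀ E : H → ℂ,
      IsClassFunction H E → (∀ c, MemLocalRing M (E c)) → MemLocalRing M ((Nat.card H : ℂ)⁻¹ * ∑ c, E c * g c))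
    (i j : Fin 4) :
    MemLocalRing M (∑ χ : B, ((μ χ i - μ χ 3) ^ 2 * (μ χ j - μ χ 3) : ℤ) *
      ((Nat.card G : ℂ) / (8 * (χ : G → ℂ) 1))) := by
  classical
  have hp2 : Fact (Nat.Prime 2) := ⟨Nat.prime_two⟩
  have hMp := isPrime_of_isPModular hM
  have := Core.finite_irr (G := G)
  have := Fintype.ofFinite (IrrCharacter G)
  have := Core.finite_irr (G := H)
  have := Fintype.ofFinite (IrrCharacter H)
  have huH : u ∈ H := by
    rw [L.hH, Subgroup.mem_centralizer_singleton_iff]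
  obtain ⟨u', hu'⟩ : ∃ u' : H, (u' : G) = u := ⟨⟨u, huH⟩, rfl⟩
  have hu'c : u' ∈ Subgroup.center H := by
    rw [Subgroup.mem_center_iff]
    intro g
    apply Subtype.ext
    show (g : G) * u' = u' * g
    rw [hu']
    exact Subgroup.mem_centralizer_singleton_iff.1 (L.hH.le g.2)
  have hu2 : ∃ k, orderOf u = 2 ^ k := ⟨1, by
    rw [pow_one]
    exact orderOf_eq_prime (by rw [pow_two, L.inv]) L.ne⟩
  have hu'2 : ∃ k, orderOf u' = 2 ^ k := by
    obtain ⟨k, hk⟩ := hu2
    exact ⟨k, by rw [← Subgroup.orderOf_coe, hu', hk]⟩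
  have hε : ∀ i, (ε i : ℂ) * ε i = 1 := by
    intro i
    rcases L.sign i with h | h <;> rw [h] <;> norm_num
  -- the multiplicities in `G`
  have hk1 : ∀ (i : Fin 4) (χ : IrrCharacter G), 2 * classInner (indFun H (shf u' (regPart 2 (dif ψ ε i)))) (χ : G → ℂ) =
      ((if h : χ ∈ B then μ ⟨χ, h⟩ i - μ ⟨χ, h⟩ 3 else 0 : ℤ) : ℂ) := by
    intro i χ
    rw [classInner_ind u' _ (Core.isIrr_isClassFunction χ.2), hu', wt_dif]
    by_cases h : χ ∈ B
    · rw [dif_pos h]
      have h1 := hμ ⟨χ, h⟩ i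
      have h2 := hμ ⟨χ, h⟩ 3
      have h3 : (ε i : ℂ) * wt 2 u (χ : G → ℂ) (ψ i : H → ℂ) - (ε 3 : ℂ) * wt 2 u (χ : G → ℂ) (ψ 3 : H → ℂ) =
          (((μ ⟨χ, h⟩ i - μ ⟨χ, h⟩ 3 : ℤ) : ℂ)) / 2 := by
        push_cast at h1 h2 ⊢
        linear_combination (1 / 8 : ℂ) * h1 - (1 / 8 : ℂ) * h2
      rw [h3, map_div₀, map_intCast, Complex.conj_ofNat]
      ring
    · rw [dif_neg h]
      have h0 : ∀ i, wt 2 u (χ : G → ℂ) (ψ i : H → ℂ) = 0 := by
        intro i
        refine Cfsg.Agent.H639.wt_eq_zero hM hu2 L.hH (isPBlock_blockOf χ) (mem_blockOf_self χ) ?_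
        intro hind
        rw [← isPBlock_eq_blockOf L.ind.1 (L.mem i)] at hind
        have h1 := Cfsg.Agent.Blocks.CentralizerSum.inducedBlock_unique hind L.ind
        apply h
        rw [← h1]
        exact mem_blockOf_self χ
      rw [h0, h0]
      simp
  -- the multiplicities in `H`
  have hρ1 : ∀ θ : IrrCharacter H, ∃ n : ℤ, 2 * classInner (shf u' (regPart 2 (dif ψ ε j))) (θ : H → ℂ) = n ∧
      (n ≠ 0 → θ ∈ f) := by
    intro θ
    obtain ⟨e, he1, he⟩ := Cfsg.Agent.Blocks.CentralizerSum.exists_central_scalar θ.2 hu'c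
    have h1 : classInner (shf u' (regPart 2 (dif ψ ε j))) (θ : H → ℂ) =
        conj (e * rg 2 (θ : H → ℂ) (dif ψ ε j)) := by
      rw [classInner_shf]
      congr 1
      simp only [rg_def, pair_eq_sum_filter, Finset.mul_sum]
      refine Finset.sum_congr rfl fun s _ => ?_
      rw [he]
      ring
    have he2 : e = 1 ∨ e = -1 := by
      have h2 := he (u' * 1)
      have h3 := he 1
      rw [← mul_assoc, show u' * u' = 1 from Subtype.ext (by show (u' : G) * u' = 1; rw [hu', L.inv]), one_mul, h3,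
        ← mul_assoc] at h2
      have h4 := apply_one_ne_zero θ
      have h5 : e * e = 1 := by
        have : (e * e - 1) * (θ : H → ℂ) 1 = 0 := by linear_combination -h2
        rcases mul_eq_zero.1 this with h | h
        · linear_combination h
        · exact absurd h h4
      have h6 : (e - 1) * (e + 1) = 0 := by linear_combination h5
      rcases mul_eq_zero.1 h6 with h | h
      · left; linear_combination h
      · right; linear_combination h
    by_cases hθ : θ ∈ f
    · obtain ⟨m, hm⟩ := L.span θ hθ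
      have h2 : 2 * rg 2 (θ : H → ℂ) (dif ψ ε j) = ((m j * ε j - m 3 * ε 3 : ℤ) : ℂ) := by
        have h3 : ∀ i, rg 2 (θ : H → ℂ) (ψ i : H → ℂ) = ∑ l, (m l : ℂ) * rg 2 (ψ l : H → ℂ) (ψ i : H → ℂ) := by
          intro i
          simp only [rg_def, pair_eq_sum_filter, Finset.mul_sum]
          rw [Finset.sum_comm]
          refine Finset.sum_congr rfl fun s hs => ?_
          rw [hm s (Finset.mem_filter.1 hs).2, Finset.sum_mul, Finset.mul_sum]
          exact Finset.sum_congr rfl fun l _ => by ring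
        have h4 : ∀ i, 8 * ((ε i : ℂ) * rg 2 (θ : H → ℂ) (ψ i : H → ℂ)) = 4 * (m i * ε i) - ∑ l, (m l : ℂ) * ε l := by
          intro i
          have h5 : ∀ l, 8 * rg 2 (ψ l : H → ℂ) (ψ i : H → ℂ) = ((4 * (if l = i then 1 else 0) - ε l * ε i : ℤ) : ℂ) :=
            fun l => L.gram inferInstance l i
          rw [h3, ← mul_assoc, Finset.mul_sum]
          have h6 : ∀ l, 8 * (ε i : ℂ) * ((m l : ℂ) * rg 2 (ψ l : H → ℂ) (ψ i : H → ℂ)) =
              (if l = i then 4 * ((m i : ℂ) * ε i) else 0) - (m l : ℂ) * ε l := by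
            intro l
            have h7 := h5 l
            have h8 := hε i
            split_ifs at h7 ⊢ with h9
            · subst h9
              push_cast at h7
              linear_combination (ε l * m l : ℂ) * h7 - (m l : ℂ) * ε l * h8
            · push_cast at h7
              linear_combination (ε i * m l : ℂ) * h7 - (m l : ℂ) * ε l * h8
          rw [Finset.sum_congr rfl fun l _ => h6 l, Finset.sum_sub_distrib, Finset.sum_ite_eq' Finset.univ i]
          simp
        rw [rg_dif]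
        push_cast
        linear_combination (1 / 4 : ℂ) * h4 j - (1 / 4 : ℂ) * h4 3
      rcases he2 with h | h
      · refine ⟨m j * ε j - m 3 * ε 3, ?_, fun _ => hθ⟩
        rw [h1, h, one_mul, ← map_intCast (starRingEnd ℂ), ← h2, map_mul, Complex.conj_ofNat]
      · refine ⟨-(m j * ε j - m 3 * ε 3), ?_, fun _ => hθ⟩
        rw [h1, h, ← map_intCast (starRingEnd ℂ), Int.cast_neg, ← h2, map_neg, map_mul, map_mul, map_neg, map_one,
          Complex.conj_ofNat]
        ring
    · refine ⟨0, ?_, fun h => absurd rfl h⟩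
      rw [h1, rg_dif, rg_eq_zero' hM L.ind.1 hθ (L.mem j), rg_eq_zero' hM L.ind.1 hθ (L.mem 3)]
      simp
  choose ρ hρ hρf using hρ1
  have hmain := key_abs hM (u := u') (by rw [hu', L.inv]) (by rw [hu']; exact L.hH)
    (regPart_isClassFunction (p := 2) (isClassFunction_dif (ψ := ψ) (ε := ε) i))
    (regPart_isClassFunction (p := 2) (isClassFunction_dif (ψ := ψ) (ε := ε) j))
    (fun c hc => regPart_of_dvd hc) (fun c hc => regPart_of_dvd hc) (fun c => by
      by_cases hc : 2 ∣ orderOf c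
      · rw [regPart_of_dvd hc]; exact isIntegral_zero
      · rw [regPart_of_not_dvd hc]; exact isIntegral_dif i c) _ (hk1 i) ρ hρ (fun θ hθ => by
      have h1 := memLocalRing_card_div_defect hM (hρf θ hθ) (L.height θ (hρf θ hθ))
      rw [L.deff] at h1
      have h2 : ((2 : ℕ) : ℂ) ^ 3 = 8 := by norm_num
      rwa [h2] at h1) (hP u' hu'c hu'2)
  have hsum : (Nat.card G : ℂ) * ∑ χ : IrrCharacter G,
      classInner (indFun H (shf u' (regPart 2 (dif ψ ε i)))) (χ : G → ℂ) *
      classInner (indFun H (shf u' (regPart 2 (dif ψ ε i)))) (χ : G → ℂ) *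
      conj (classInner (indFun H (shf u' (regPart 2 (dif ψ ε j)))) (χ : G → ℂ)) / (χ : G → ℂ) 1 =
      ∑ χ : B, ((μ χ i - μ χ 3) ^ 2 * (μ χ j - μ χ 3) : ℤ) * ((Nat.card G : ℂ) / (8 * (χ : G → ℂ) 1)) := by
    rw [Finset.mul_sum, sum_eq_sum_coe B]
    · refine Finset.sum_congr rfl fun χ _ => ?_
      have h1 := hk1 i χ
      have h2 := hk1 j χ
      rw [dif_pos χ.2] at h1 h2
      have h3 : classInner (indFun H (shf u' (regPart 2 (dif ψ ε i)))) (χ : G → ℂ) = ((μ χ i - μ χ 3 : ℤ) : ℂ) / 2 := by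
        rw [← h1]; ring
      have h4 : classInner (indFun H (shf u' (regPart 2 (dif ψ ε j)))) (χ : G → ℂ) = ((μ χ j - μ χ 3 : ℤ) : ℂ) / 2 := by
        rw [← h2]; ring
      rw [h3, h4, map_div₀, map_intCast, Complex.conj_ofNat]
      have h5 := apply_one_ne_zero (χ : IrrCharacter G)
      push_cast
      field_simp
      ring
    · intro χ hχ
      have h1 := hk1 i χ
      rw [dif_neg hχ, Int.cast_zero] at h1
      have h2 : classInner (indFun H (shf u' (regPart 2 (dif ψ ε i)))) (χ : G → ℂ) = 0 := by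
        rcases mul_eq_zero.1 h1 with h | h
        · exact absurd h two_ne_zero
        · exact h
      rw [h2]
      simp
  rw [hsum] at hmain
  exact hmain

end Cfsg.Agent.H850.KKL
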