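import Cfsg.Agent.H850.KKL.Conv

/-!
# S4546: the integrality of the cubic sum
-/

set_option autoImplicit false
set_option linter.unusedSectionVars false

open Cfsg
open scoped ComplexConjugate

namespace Cfsg.Agent.H850.KKL

open Cfsg.Agent.Characters Cfsg.Agent.Blocks.Local Cfsg.Agent.Blocks.Blau

/-- the function on `H` supported on the section of `u` -/
def shf {H : Type*} [Group H] (u : H) (Φ : H → ℂ) : H → ℂ := fun c => Φ (u⁻¹ * c)

theorem shf_apply {H : Type*} [Group H] (u : H) (Φ : H → ℂ) (c : H) : shf u Φ c = Φ (u⁻¹ * c) := rfl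

theorem isClassFunction_shf {H : Type*} [Group H] {u : H} (hu : u ∈ Subgroup.center H) {Φ : H → ℂ}
    (hΦ : IsClassFunction H Φ) : IsClassFunction H (shf u Φ) := by
  intro g h
  rw [shf_apply, shf_apply, ← hΦ (u⁻¹ * g) h]
  congr 1
  have h1 : u⁻¹ * h = h * u⁻¹ := (Subgroup.mem_center_iff.1 (Subgroup.inv_mem _ hu) h).symm
  rw [← mul_assoc, ← mul_assoc, ← mul_assoc, h1]

section

variable {G : Type*} [Group G] [Fintype G] {M : Ideal AlgInt}

theorem isPPart_of {H : Subgroup G} {u : H} (huc : u ∈ Subgroup.center H) (hu2 : ∃ k, orderOf (u : G) = 2 ^ k) {c : H}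
    (h : ¬ 2 ∣ orderOf (u⁻¹ * c)) : IsPPart 2 (c : G) (u : G) := by
  refine ⟨((u⁻¹ * c : H) : G), ?_, ?_, hu2, ?_⟩
  · show (u : G) * ((u : G)⁻¹ * (c : G)) = c
    rw [mul_inv_cancel_left]
  · exact congrArg Subtype.val (Subgroup.mem_center_iff.1 huc (u⁻¹ * c)).symm
  · rwa [Subgroup.orderOf_coe]

/-- `∑ F g conj (indFun θ g)` for a class function `F`. -/
theorem sum_mul_conj_indFun {H : Subgroup G} [Fintype H] (θ : H → ℂ) {F : G → ℂ} (hF : IsClassFunction G F) :
    ∑ g : G, F g * conj (indFun H θ g) = (Nat.card H : ℂ)⁻¹ * (Nat.card G : ℂ) * ∑ k : H, F k * conj (θ k) := by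
  have h := Cfsg.Agent.OddOrderCharacters.InducedNormal.sum_indFun_mul H θ (fun g => conj (F g)) (fun g h => by
    show conj _ = conj _
    rw [hF g h])
  have h1 := congrArg conj h
  simp only [map_sum, map_mul, map_inv₀, Complex.conj_natCast, Complex.conj_conj] at h1
  rw [Nat.card_eq_fintype_card (α := G), ← Finset.sum_congr rfl fun k _ => mul_comm (conj (θ k)) (F k), ← h1]
  exact Finset.sum_congr rfl fun g _ => mul_comm _ _

theorem isIntegral_indFun {H : Subgroup G} {u : G} (hH : H = Subgroup.centralizer ({u} : Set G)) {θ : H → ℂ}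
    (hθ : IsClassFunction H θ) (hsupp : ∀ c : H, θ c ≠ 0 → IsPPart 2 (c : G) u) (hint : ∀ c, IsIntegral ℤ (θ c))
    (g : G) : IsIntegral ℤ (indFun H θ g) := by
  have : Fact (Nat.Prime 2) := ⟨Nat.prime_two⟩
  rcases Cfsg.Agent.H624.MajVal.indFun_apply_of_section hH hθ hsupp g with h | ⟨c, h⟩
  · rw [h]; exact isIntegral_zero
  · rw [h]; exact hint c

/-- **The cubic sum is integral.** -/
theorem key_abs (hM : IsPModular 2 M) {H : Subgroup G} [Fintype H] [Fintype (IrrCharacter G)]
    [Fintype (IrrCharacter H)] {u : H} (huu : (u : G) * u = 1)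
    (hH : H = Subgroup.centralizer ({(u : G)} : Set G))
    {Φ Ψ : H → ℂ} (hΦ : IsClassFunction H Φ) (hΨ : IsClassFunction H Ψ)
    (hΦ0 : ∀ c : H, 2 ∣ orderOf c → Φ c = 0) (hΨ0 : ∀ c : H, 2 ∣ orderOf c → Ψ c = 0)
    (hΦi : ∀ c, IsIntegral ℤ (Φ c))
    (k : IrrCharacter G → ℤ) (hk : ∀ χ : IrrCharacter G, 2 * classInner (indFun H (shf u Φ)) (χ : G → ℂ) = k χ)
    (ρ : IrrCharacter H → ℤ) (hρ : ∀ θ : IrrCharacter H, 2 * classInner (shf u Ψ) (θ : H → ℂ) = ρ θ)
    (hloc : ∀ θ : IrrCharacter H, ρ θ ≠ 0 → MemLocalRing M ((Nat.card H : ℂ) / (8 * (θ : H → ℂ) 1)))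
    (hP : ∀ g : H → ℂ, IsGeneralizedCharacter H g → (∀ c : H, 2 ∣ orderOf (u⁻¹ * c) → g c = 0) → ∀ E : H → ℂ,
      IsClassFunction H E → (∀ c, MemLocalRing M (E c)) → MemLocalRing M ((Nat.card H : ℂ)⁻¹ * ∑ c, E c * g c)) :
    MemLocalRing M ((Nat.card G : ℂ) * ∑ χ : IrrCharacter G, classInner (indFun H (shf u Φ)) (χ : G → ℂ) *
      classInner (indFun H (shf u Φ)) (χ : G → ℂ) * conj (classInner (indFun H (shf u Ψ)) (χ : G → ℂ)) /
        (χ : G → ℂ) 1) := by
  classical
  have hMp := isPrime_of_isPModular hM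
  have huc : u ∈ Subgroup.center H := by
    rw [Subgroup.mem_center_iff]
    intro g
    apply Subtype.ext
    exact Subgroup.mem_centralizer_singleton_iff.1 (hH ▸ g.2)
  have hu2 : ∃ k, orderOf (u : G) = 2 ^ k := by
    have h1 : orderOf (u : G) ∣ 2 ^ 1 := by
      rw [pow_one]
      exact orderOf_dvd_of_pow_eq_one (by rw [pow_two, huu])
    obtain ⟨k, -, hk⟩ := (Nat.dvd_prime_pow Nat.prime_two).1 h1
    exact ⟨k, hk⟩
  have hcΦ := isClassFunction_shf huc hΦ
  have hcΨ := isClassFunction_shf huc hΨ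
  have hsuppΦ : ∀ c : H, shf u Φ c ≠ 0 → IsPPart 2 (c : G) u := fun c hc =>
    isPPart_of huc hu2 fun h => hc (hΦ0 _ h)
  set a : G → ℂ := indFun H (shf u Φ) with ha
  set b : G → ℂ := indFun H (shf u Ψ) with hb
  have hac : IsClassFunction G a := Cfsg.Agent.CharactersDeep.IndFun.isClassFunction_indFun H _
  have hbc : IsClassFunction G b := Cfsg.Agent.CharactersDeep.IndFun.isClassFunction_indFun H _
  have hai : ∀ g, IsIntegral ℤ (a g) := isIntegral_indFun hH hcΦ hsuppΦ fun c => hΦi _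
  -- the congruence
  have hE := fun z : H => cnv_sub huu hH hac hai z
  choose E hEi hE using hE
  set aH : H → ℂ := fun x => a x with haH
  have haHc : IsClassFunction H aH := fun g h => hac g h
  have hEc : IsClassFunction H E := by
    intro g h
    have h1 := hE g
    have h2 := hE (h * g * h⁻¹)
    have h3 : cnv a a ((h * g * h⁻¹ : H) : G) = cnv a a (g : G) := by
      exact isClassFunction_cnv hac hac (g : G) (h : G)
    rw [h3, isClassFunction_cnv haHc haHc g h, h1] at h2
    have h4 := mul_left_cancel₀ (two_ne_zero (α := ℂ)) (add_left_cancel h2)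
    exact h4.symm
  -- the total
  have hT1 := triple (b := a) hac hbc
  have hT2 := sum_cnv a a b
  have hT3 := sum_mul_conj_indFun (shf u Ψ) (isClassFunction_cnv hac hac)
  rw [← hb] at hT3
  rw [hT2, hT1] at hT3
  have hG0 : (Nat.card G : ℂ) ≠ 0 := Core.card_ne_zero_complex
  have hH0 : (Nat.card H : ℂ) ≠ 0 := Core.card_ne_zero_complex
  have hS1 : ∑ k : H, cnv a a (k : G) * conj (shf u Ψ k) =
      ∑ k : H, cnv aH aH k * conj (shf u Ψ k) + ∑ k : H, E k * (2 * conj (shf u Ψ k)) := by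
    rw [← Finset.sum_add_distrib]
    refine Finset.sum_congr rfl fun k _ => ?_
    rw [hE k]
    ring
  have hS2 := triple (b := aH) haHc hcΨ
  rw [← sum_cnv] at hS2
  have hmain : (Nat.card G : ℂ) * ∑ χ : IrrCharacter G, classInner a (χ : G → ℂ) *
      classInner a (χ : G → ℂ) * conj (classInner b (χ : G → ℂ)) / (χ : G → ℂ) 1 =
      ∑ θ : IrrCharacter H, (Nat.card H : ℂ) * (classInner aH (θ : H → ℂ) * classInner aH (θ : H → ℂ) *
        conj (classInner (shf u Ψ) (θ : H → ℂ)) / (θ : H → ℂ) 1) +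
      (Nat.card H : ℂ)⁻¹ * ∑ k : H, E k * (2 * conj (shf u Ψ k)) := by
    rw [hS1, hS2] at hT3
    rw [← Finset.mul_sum]
    apply mul_left_cancel₀ hG0
    rw [← mul_assoc, ← pow_two, hT3]
    generalize (∑ k : H, E k * (2 * conj (shf u Ψ k))) = R
    generalize (∑ θ : IrrCharacter H, classInner aH (θ : H → ℂ) * classInner aH (θ : H → ℂ) *
        conj (classInner (shf u Ψ) (θ : H → ℂ)) / (θ : H → ℂ) 1) = S
    field_simp
  rw [hmain]
  refine memLocalRing_add (memLocalRing_sum fun θ _ => ?_) ?_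
  · -- the multiplicities
    have hn : ∃ n : ℤ, 2 * classInner aH (θ : H → ℂ) = n := by
      have h1 : aH = ∑ χ : IrrCharacter G, classInner a (χ : G → ℂ) • (fun c : H => (χ : G → ℂ) c) := by
        funext c
        show a c = _
        conv_lhs => rw [Core.classFunction_eq_sum hac]
        rw [Finset.sum_apply, Finset.sum_apply]
        rfl
      have h2 : ∀ χ : IrrCharacter G, ∃ n : ℕ, classInner (fun c : H => (χ : G → ℂ) c) (θ : H → ℂ) = n := fun χ =>
        Core.classInner_isNat (Core.isCharacter_comp H.subtype (Core.isIrr_isCharacter χ.2)) (Core.isIrr_isCharacter θ.2)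
      choose m hm using h2
      refine ⟨∑ χ, k χ * m χ, ?_⟩
      rw [h1, Core.classInner_sum_left, Finset.mul_sum]
      push_cast
      refine Finset.sum_congr rfl fun χ _ => ?_
      rw [Core.classInner_smul_left, hm χ, ← mul_assoc, hk χ]
    obtain ⟨n, hn⟩ := hn
    by_cases h0 : ρ θ = 0
    · have h1 := hρ θ
      rw [h0, Int.cast_zero] at h1
      have h2 : classInner (shf u Ψ) (θ : H → ℂ) = 0 := by
        rcases mul_eq_zero.1 h1 with h | h
        · exact absurd h two_ne_zero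
        · exact h
      rw [h2, map_zero, mul_zero, zero_div, mul_zero]
      exact memLocalRing_natCast (M := M) 0 |> (by simpa using ·)
    · have h1 : classInner (shf u Ψ) (θ : H → ℂ) = (ρ θ : ℂ) / 2 := by rw [← hρ θ]; ring
      have h2 : classInner aH (θ : H → ℂ) = (n : ℂ) / 2 := by rw [← hn]; ring
      have h3 : (Nat.card H : ℂ) * (classInner aH (θ : H → ℂ) * classInner aH (θ : H → ℂ) *
          conj (classInner (shf u Ψ) (θ : H → ℂ)) / (θ : H → ℂ) 1) =
          ((n * n * ρ θ : ℤ) : ℂ) * ((Nat.card H : ℂ) / (8 * (θ : H → ℂ) 1)) := by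
        rw [h1, h2, map_div₀, map_intCast, Complex.conj_ofNat]
        have h4 := apply_one_ne_zero θ
        push_cast
        field_simp
        ring
      rw [h3]
      exact memLocalRing_mul (memLocalRing_intCast _) (hloc θ h0)
  · -- the error
    refine hP (fun c => 2 * conj (shf u Ψ c)) ?_ (fun c hc => ?_) E hEc fun c => memLocalRing_of_isIntegral (hEi c)
    · have h1 : (fun c => 2 * shf u Ψ c) = ∑ θ : IrrCharacter H, ρ θ • (θ : H → ℂ) := by
        funext c
        rw [Finset.sum_apply]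
        conv_lhs => rw [Core.classFunction_eq_sum hcΨ]
        rw [Finset.sum_apply, Finset.mul_sum]
        refine Finset.sum_congr rfl fun θ _ => ?_
        have h2 : classInner (shf u Ψ) (θ : H → ℂ) = (ρ θ : ℂ) / 2 := by rw [← hρ θ]; ring
        rw [Pi.smul_apply, Pi.smul_apply, smul_eq_mul, h2, zsmul_eq_mul]
        ring
      obtain ⟨χ, ψ, hχ, hψ, h2⟩ := Core.isGeneralizedCharacter_iff.2 ⟨ρ, h1⟩
      refine ⟨_, _, Core.isCharacter_conj hχ, Core.isCharacter_conj hψ, ?_⟩
      funext c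
      have h3 := congrArg conj (congrFun h2 c)
      rw [map_mul, Complex.conj_ofNat] at h3
      rw [h3, Pi.sub_apply, Pi.sub_apply, map_sub]
    · show 2 * conj (Ψ (u⁻¹ * c)) = 0
      rw [hΨ0 _ hc, map_zero, mul_zero]

end

end Cfsg.Agent.H850.KKL
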