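import Cfsg.Agent.Blocks.PElements
import Cfsg.Agent.Blocks.ClassSum
import Cfsg.Agent.Blocks.CentralizerSum
import Cfsg.Agent.Blocks.Blau

/-!
# Generalized characters vanishing off the section of a central `p`-element
-/

set_option autoImplicit false
set_option linter.unusedSectionVars false

open Cfsg
open scoped ComplexConjugate

namespace Cfsg.Agent.H850.KKL

open Cfsg.Agent.Characters Cfsg.Agent.Blocks.Local Cfsg.Agent.Blocks.Blau Cfsg.Agent.Blocks.PElements

variable {p : ℕ} [Fact p.Prime] {M : Ideal AlgInt}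

theorem sum_pElements_shift (hM : IsPModular p M) {K : Type*} [Group K] [Finite K] {χ : K → ℂ} (hχ : IsCharacter K χ)
    {s : K} (hs : s ∈ Subgroup.center K) :
    MemLocalRing M ((Nat.card K : ℂ)⁻¹ * ∑ᶠ x ∈ pElements K p, χ (s * x)) := by
  classical
  have := isPrime_of_isPModular hM
  have hfin := Core.finite_irr (G := K)
  have := Fintype.ofFinite (IrrCharacter K)
  obtain ⟨n, hn⟩ := Core.isCharacter_iff.1 hχ
  have hc : ∀ η : IrrCharacter K, ∃ c : ℂ, MemLocalRing M c ∧ ∀ h : K, (η : K → ℂ) (s * h) = c * (η : K → ℂ) h := by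
    intro η
    obtain ⟨c, -, hc⟩ := Cfsg.Agent.Blocks.CentralizerSum.exists_central_scalar η.2 hs
    refine ⟨c, ?_, hc⟩
    have h2 : ∀ m : ℕ, (η : K → ℂ) (s ^ m) = c ^ m * (η : K → ℂ) 1 := by
      intro m
      induction m with
      | zero => simp
      | succ m ih => rw [pow_succ', hc, ih, pow_succ']; ring
    have h3 : c ^ orderOf s = 1 := by
      have := h2 (orderOf s)
      rw [pow_orderOf_eq_one] at this
      have h4 := apply_one_ne_zero η
      have h5 : (c ^ orderOf s - 1) * (η : K → ℂ) 1 = 0 := by linear_combination -this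
      rcases mul_eq_zero.1 h5 with h | h
      · linear_combination h
      · exact absurd h h4
    exact memLocalRing_of_isIntegral (IsIntegral.of_pow (orderOf_pos s) (by rw [h3]; exact isIntegral_one))
  choose c hcR hc using hc
  have h1 : ∑ᶠ x ∈ pElements K p, χ (s * x) =
      ∑ η : IrrCharacter K, ((n η : ℂ) * c η) * ∑ᶠ x ∈ pElements K p, (η : K → ℂ) x := by
    simp only [finsum_mem_eq_finite_toFinset_sum _ (Set.toFinite _), Finset.mul_sum]
    rw [Finset.sum_comm]
    refine Finset.sum_congr rfl fun x _ => ?_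
    rw [hn, Finset.sum_apply]
    refine Finset.sum_congr rfl fun η _ => ?_
    rw [Pi.smul_apply, hc, nsmul_eq_mul]
    ring
  rw [h1, Finset.mul_sum]
  refine memLocalRing_sum fun η _ => ?_
  have h2 := memLocalRing_mul (memLocalRing_mul (memLocalRing_natCast (M := M) (n η)) (hcR η))
    (memLocalRing_sum_pElements hM (Core.isIrr_isCharacter η.2))
  convert h2 using 1
  ring

/-- **The divisibility.** -/
theorem div_card (hM : IsPModular p M) {C : Type*} [Group C] [Finite C] {g : C → ℂ}
    (hg : IsGeneralizedCharacter C g) {u : C} (hu : u ∈ Subgroup.center C) (hup : ∃ k, orderOf u = p ^ k)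
    (h0 : ∀ c : C, p ∣ orderOf (u⁻¹ * c) → g c = 0) (t : C) :
    MemLocalRing M (g t * (Nat.card (Subgroup.centralizer ({t} : Set C)) : ℂ)⁻¹) := by
  classical
  have := isPrime_of_isPModular hM
  by_cases ht : p ∣ orderOf (u⁻¹ * t)
  · rw [h0 t ht, zero_mul]
    exact memLocalRing_zero
  obtain ⟨s, hs⟩ : ∃ s, s = u⁻¹ * t := ⟨_, rfl⟩
  rw [← hs] at ht
  have hts : t = u * s := by rw [hs, mul_inv_cancel_left]
  set K := Subgroup.centralizer ({t} : Set C) with hK
  have hsK : s ∈ K := by
    rw [hK, Subgroup.mem_centralizer_singleton_iff, hts]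
    have h1 := Subgroup.mem_center_iff.1 hu s
    rw [← mul_assoc, h1]
  have huK : u ∈ K := Subgroup.center_le_centralizer _ hu
  let s' : K := ⟨s, hsK⟩
  let u' : K := ⟨u, huK⟩
  have hsc : s' ∈ Subgroup.center K := by
    rw [Subgroup.mem_center_iff]
    intro x
    apply Subtype.ext
    show (x : C) * s = s * x
    have h1 : (x : C) * t = t * x := Subgroup.mem_centralizer_singleton_iff.1 x.2
    have h2 : u⁻¹ * (x : C) = x * u⁻¹ := (Subgroup.mem_center_iff.1 (Subgroup.inv_mem _ hu) x).symm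
    rw [hs, ← mul_assoc, ← h2, mul_assoc, h1, ← mul_assoc]
  obtain ⟨χ, ψ, hχ, hψ, rfl⟩ := hg
  have h1 := sum_pElements_shift (p := p) hM (Core.isCharacter_comp K.subtype hχ) hsc
  have h2 := sum_pElements_shift (p := p) hM (Core.isCharacter_comp K.subtype hψ) hsc
  have h3 := memLocalRing_sub h1 h2
  rw [← mul_sub] at h3
  have h4 : ∑ᶠ x ∈ pElements K p, (fun c : K => χ c) (s' * x) - ∑ᶠ x ∈ pElements K p, (fun c : K => ψ c) (s' * x) =
      (χ - ψ) t := by
    simp only [finsum_mem_eq_finite_toFinset_sum _ (Set.toFinite _)]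
    rw [← Finset.sum_sub_distrib]
    have huP : u' ∈ pElements K p := by
      obtain ⟨k, hk⟩ := hup
      exact ⟨k, by rw [← hk, ← Subgroup.orderOf_coe]⟩
    rw [Finset.sum_eq_single u']
    · show χ (s * u) - ψ (s * u) = χ t - ψ t
      rw [hts, Subgroup.mem_center_iff.1 hu s]
    · intro x hx hne
      have hxP : x ∈ pElements K p := (Set.Finite.mem_toFinset _).1 hx
      have h5 := h0 (s * x) ?_
      · exact h5
      · by_contra hnd
        apply hne
        -- the `p`-part of `u⁻¹ x s` is `u⁻¹ x`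
        have hcomm : Commute (u⁻¹ * (x : C)) s := by
          have e1 : (x : C) * s = s * x := congrArg Subtype.val (Subgroup.mem_center_iff.1 hsc x)
          have e2 := Subgroup.mem_center_iff.1 (Subgroup.inv_mem _ hu) s
          show u⁻¹ * (x : C) * s = s * (u⁻¹ * x)
          rw [mul_assoc, e1, ← mul_assoc, ← mul_assoc, e2]
        have hpx : ∃ k, orderOf (u⁻¹ * (x : C)) = p ^ k := by
          obtain ⟨k, hk⟩ := hup
          obtain ⟨l, hl⟩ := hxP
          have e1 : Commute u⁻¹ (x : C) := (Subgroup.mem_center_iff.1 (Subgroup.inv_mem _ hu) (x : C)).symm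
          have e2 : (u⁻¹ * (x : C)) ^ p ^ (k + l) = 1 := by
            rw [e1.mul_pow, inv_pow, pow_add, pow_mul, ← hk, pow_orderOf_eq_one, one_pow, inv_one, one_mul,
              mul_comm, pow_mul, ← hl, ← Subgroup.orderOf_coe, pow_orderOf_eq_one, one_pow]
          obtain ⟨m, -, hm⟩ := (Nat.dvd_prime_pow (Fact.out : p.Prime)).1 (orderOf_dvd_of_pow_eq_one e2)
          exact ⟨m, hm⟩
        have e3 : IsPPart p (u⁻¹ * (s * x)) (u⁻¹ * (x : C)) := by
          refine ⟨s, ?_, hcomm, hpx, ht⟩
          rw [mul_assoc, show (x : C) * s = s * x from congrArg Subtype.val (Subgroup.mem_center_iff.1 hsc x)]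
        have e4 := Cfsg.Agent.Blocks.PPart.isPPart_unique e3 (Cfsg.Agent.Blocks.PPart.isPPart_of_not_dvd hnd)
        apply Subtype.ext
        exact (inv_mul_eq_one.1 e4).symm
    · intro h
      exact absurd ((Set.Finite.mem_toFinset _).2 huP) h
  rw [mul_comm]
  rw [← h4]
  exact h3

theorem sum_class_mem (hM : IsPModular p M) {C : Type*} [Group C] [Fintype C] {F : C → ℂ} (hF : IsClassFunction C F)
    (h : ∀ t, MemLocalRing M (F t * (Nat.card (Subgroup.centralizer ({t} : Set C)) : ℂ)⁻¹)) :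
    MemLocalRing M ((Nat.card C : ℂ)⁻¹ * ∑ c, F c) := by
  classical
  have := isPrime_of_isPModular hM
  obtain ⟨T, hT⟩ := Cfsg.Agent.Blocks.ClassSum.exists_reps (G := C)
  have h1 := hT F (fun _ => 1) hF
  simp only [mul_one] at h1
  rw [h1, Finset.mul_sum]
  refine memLocalRing_sum fun t _ => ?_
  have h2 : ∑ᶠ y ∈ {y : C | IsConj t y}, (1 : ℂ) = ((Subgroup.centralizer ({t} : Set C)).index : ℂ) := by
    rw [finsum_mem_eq_finite_toFinset_sum _ (Set.toFinite _), Finset.sum_const, nsmul_eq_mul, mul_one,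
      ← Set.ncard_eq_toFinset_card _ (Set.toFinite _), Cfsg.Agent.Blocks.Induced.ncard_conj_eq_index]
  have h3 := (Subgroup.centralizer ({t} : Set C)).card_mul_index
  have h4 : (Nat.card (Subgroup.centralizer ({t} : Set C)) : ℂ) * (Subgroup.centralizer ({t} : Set C)).index =
      Nat.card C := by exact_mod_cast h3
  have h5 : (Nat.card (Subgroup.centralizer ({t} : Set C)) : ℂ) ≠ 0 := by exact_mod_cast Nat.card_pos.ne'
  have h6 : (Nat.card C : ℂ) ≠ 0 := by exact_mod_cast Nat.card_pos.ne'
  have h7 : (Nat.card C : ℂ)⁻¹ * (F t * ∑ᶠ y ∈ {y : C | IsConj t y}, (1 : ℂ)) =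
      F t * (Nat.card (Subgroup.centralizer ({t} : Set C)) : ℂ)⁻¹ := by
    rw [h2, ← h4]
    have h8 : ((Subgroup.centralizer ({t} : Set C)).index : ℂ) ≠ 0 := by
      intro h9
      rw [h9, mul_zero] at h4
      exact h6 h4.symm
    field_simp
  rw [h7]
  exact h t

/-- **Lemma P.** -/
theorem memLocalRing_of_section (hM : IsPModular p M) {C : Type*} [Group C] [Fintype C] {g : C → ℂ}
    (hg : IsGeneralizedCharacter C g) {u : C} (hu : u ∈ Subgroup.center C) (hup : ∃ k, orderOf u = p ^ k)
    (h0 : ∀ c : C, p ∣ orderOf (u⁻¹ * c) → g c = 0) {E : C → ℂ} (hE : IsClassFunction C E)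
    (hint : ∀ c, MemLocalRing M (E c)) : MemLocalRing M ((Nat.card C : ℂ)⁻¹ * ∑ c, E c * g c) := by
  have := isPrime_of_isPModular hM
  refine sum_class_mem hM (F := fun c => E c * g c) (fun x h => ?_) fun t => ?_
  · show E _ * g _ = E _ * g _
    obtain ⟨χ, ψ, hχ, hψ, rfl⟩ := hg
    rw [hE, Pi.sub_apply, Pi.sub_apply, Core.isCharacter_isClassFunction hχ, Core.isCharacter_isClassFunction hψ]
  · rw [mul_assoc]
    exact memLocalRing_mul (hint t) (div_card hM hg hu hup h0 t)

end Cfsg.Agent.H850.KKL
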