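import Cfsg.Agent.H850.KKL.CoreT
import Cfsg.Agent.H850.KKL.SecP
import Cfsg.Agent.H639.KKLRows

/-!
# S4546: heights zero from the local data
-/

set_option autoImplicit false

open Cfsg

namespace Cfsg.Agent.H850.KKL

universe u

/-- **The local data force all heights of `B` to be zero.** -/
theorem core {G : Type u} [Group G] [Finite G] {M : Ideal AlgInt} (hM : IsPModular 2 M) {B : Set (IrrCharacter G)}
    {u : G} {H : Subgroup G} {f : Set (IrrCharacter H)} {ψ : Fin 4 → IrrCharacter H} {ε : Fin 4 → ℤ}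
    (L : Loc M B u H f ψ ε) : ∀ χ ∈ B, blockHeight 2 B (χ : G → ℂ) = 0 := by
  have hp2 : Fact (Nat.Prime 2) := ⟨Nat.prime_two⟩
  have := Fintype.ofFinite G
  have := Fintype.ofFinite H
  have hfin := Cfsg.Agent.Characters.Core.finite_irr (G := G)
  have : Fintype B := Fintype.ofFinite B
  obtain ⟨μ, hμ, R⟩ := Cfsg.Agent.H639.KKLRows.rows hM L
  exact core_of hM L hμ R fun u hu hu2 g hg h0 E hE hint => memLocalRing_of_section hM hg hu hu2 h0 hE hint

end Cfsg.Agent.H850.KKL
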